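import Mathlib
import Groth.Prelude.Def_GrLC

set_option autoImplicit false
set_option linter.unusedSectionVars false
set_option linter.style.haveILetI false
universe u

/-!
# Graded modules perfectly paired with a graded `k`-algebra  (helper81)

`R = ⊕ R_d` a graded `k`-algebra, `H` a graded `R`-module.  `PairAx 𝒜 𝓗 c` says that `H_c` is
one-dimensional and that the multiplication pairings `R_d × H_{c-d} → H_c` are non-degenerate on
both sides (`d ≥ 0`).  This is what the top local cohomology of a Gorenstein graded ring satisfies.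

* `PairAx.isPerfPair`: the pairings are perfect;
* `PairAx.exists_repr`: every functional on `H_j` (`j ≤ c`) is represented by an element of `R_{c-j}`;
* `PairAx.finrank_eq`: `dim H_j = dim R_{c-j}`;
* `PairAx.eq_bot_of_gt`: `H_n = 0` for `n > c`, given the "Hom lemma" (`Hom(R_{≥N}, R)_{-N} = 0`,
  a consequence of depth `≥ 2`) and divisibility `H_n = R_{n-c} H_c`.
-/

namespace Groth.Agent.H81.GorSeg

open Module

variable {k : Type u} [Field k] {R : Type u} [CommRing R] [Algebra k R]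
  (𝒜 : ℤ → Submodule k R) [GradedAlgebra 𝒜]
  {H : Type u} [AddCommGroup H] [Module R H] [Module k H] [IsScalarTower k R H]
  (𝓗 : ℤ → AddSubgroup H) [SetLike.GradedSMul 𝒜 𝓗]

/-- the pairing axioms at level `c` -/
structure PairAx (c : ℤ) : Prop where
  left : ∀ (d : ℤ) (x : R), x ∈ 𝒜 d → x ≠ 0 → ∃ g ∈ 𝓗 (c - d), x • g ≠ 0
  right : ∀ (d : ℤ), 0 ≤ d → ∀ g ∈ 𝓗 (c - d), g ≠ 0 → ∃ x ∈ 𝒜 d, x • g ≠ 0
  one : ∃ h₀ ∈ 𝓗 c, h₀ ≠ 0 ∧ ∀ h ∈ 𝓗 c, ∃ a : k, h = a • h₀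

theorem algebraMap_mem_zero (a : k) : algebraMap k R a ∈ 𝒜 0 := by
  rw [Algebra.algebraMap_eq_smul_one]
  exact Submodule.smul_mem _ _ SetLike.GradedOne.one_mem

theorem smul_mem_add {d j l : ℤ} (hl : d + j = l) {x : R} (hx : x ∈ 𝒜 d) {g : H} (hg : g ∈ 𝓗 j) :
    x • g ∈ 𝓗 l := by
  have := SetLike.GradedSMul.smul_mem (A := 𝒜) (B := 𝓗) hx hg
  rw [vadd_eq_add, hl] at this
  exact this

include 𝒜 in
theorem ksmul_mem {j : ℤ} (a : k) {g : H} (hg : g ∈ 𝓗 j) : a • g ∈ 𝓗 j := by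
  have := smul_mem_add 𝒜 𝓗 (zero_add j) (algebraMap_mem_zero 𝒜 a) hg
  rwa [algebraMap_smul] at this

/-- the `j`-th piece as a `k`-subspace -/
def pieceK (j : ℤ) : Submodule k H where
  carrier := 𝓗 j
  add_mem' := (𝓗 j).add_mem
  zero_mem' := (𝓗 j).zero_mem
  smul_mem' a _ hg := ksmul_mem 𝒜 𝓗 a hg

theorem mem_pieceK {j : ℤ} {g : H} : g ∈ pieceK 𝒜 𝓗 j ↔ g ∈ 𝓗 j := Iff.rfl

/-- the pairing `R_d × H_j → k`, `(x, g) ↦ f (x g)` -/
def pairing (f : H →ₗ[k] k) (d j : ℤ) : 𝒜 d →ₗ[k] pieceK 𝒜 𝓗 j →ₗ[k] k :=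
  LinearMap.mk₂ k (fun x g => f ((x : R) • (g : H)))
    (fun x y g => by simp only [Submodule.coe_add, add_smul, map_add])
    (fun a x g => by simp only [Submodule.coe_smul, smul_assoc, map_smul])
    (fun x g g' => by simp only [Submodule.coe_add, smul_add, map_add])
    (fun a x g => by
      simp only [Submodule.coe_smul]
      rw [smul_comm, map_smul])

@[simp] theorem pairing_apply (f : H →ₗ[k] k) (d j : ℤ) (x : 𝒜 d) (g : pieceK 𝒜 𝓗 j) :
    pairing 𝒜 𝓗 f d j x g = f ((x : R) • (g : H)) := rfl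

section

variable {𝒜 𝓗} {c : ℤ} (hax : PairAx 𝒜 𝓗 c)
  {h₀ : H} (hh₀ : h₀ ∈ 𝓗 c) (hspan : ∀ h ∈ 𝓗 c, ∃ a : k, h = a • h₀)
  (f : H →ₗ[k] k) (hf : f h₀ = 1)

include hspan hf in
theorem eq_apply_smul {y : H} (hy : y ∈ 𝓗 c) : y = f y • h₀ := by
  obtain ⟨a, rfl⟩ := hspan y hy
  rw [map_smul, hf, smul_eq_mul, mul_one]

include hspan hf in
theorem eq_zero_of_apply_eq_zero {y : H} (hy : y ∈ 𝓗 c) (h : f y = 0) : y = 0 := by
  rw [eq_apply_smul hspan f hf hy, h, zero_smul]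

include hax hspan hf in
theorem pairing_injective (j : ℤ) : Function.Injective (pairing 𝒜 𝓗 f (c - j) j) := by
  rw [injective_iff_map_eq_zero]
  rintro ⟨x, hx⟩ h
  by_contra hne
  have hx0 : x ≠ 0 := fun h0 => hne (Subtype.ext h0)
  obtain ⟨g, hg, hxg⟩ := hax.left (c - j) x hx hx0
  rw [sub_sub_cancel] at hg
  apply hxg
  apply eq_zero_of_apply_eq_zero hspan f hf (smul_mem_add 𝒜 𝓗 (sub_add_cancel c j) hx hg)
  exact LinearMap.congr_fun h (⟨g, hg⟩ : pieceK 𝒜 𝓗 j)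

include hax hspan hf in
theorem pairing_flip_injective (j : ℤ) (hj : j ≤ c) :
    Function.Injective (pairing 𝒜 𝓗 f (c - j) j).flip := by
  rw [injective_iff_map_eq_zero]
  rintro ⟨g, hg⟩ h
  by_contra hne
  have hg0 : g ≠ 0 := fun h0 => hne (Subtype.ext h0)
  have hg' : g ∈ 𝓗 (c - (c - j)) := by rwa [sub_sub_cancel]
  obtain ⟨x, hx, hxg⟩ := hax.right (c - j) (by omega) g hg' hg0
  apply hxg
  apply eq_zero_of_apply_eq_zero hspan f hf (smul_mem_add 𝒜 𝓗 (sub_add_cancel c j) hx hg)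
  exact LinearMap.congr_fun h (⟨x, hx⟩ : 𝒜 (c - j))

include hax hspan hf in
/-- the pairings `R_{c-j} × H_j → k` are perfect -/
theorem PairAx.isPerfPair [∀ d, Module.Finite k (𝒜 d)] (j : ℤ) (hj : j ≤ c) :
    (pairing 𝒜 𝓗 f (c - j) j).IsPerfPair :=
  LinearMap.IsPerfPair.of_injective (pairing_injective hax hspan f hf j)
    (pairing_flip_injective hax hspan f hf j hj)

include hax hspan hf in
/-- every functional on `H_j` is represented by an element of `R_{c-j}` -/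
theorem PairAx.exists_repr [∀ d, Module.Finite k (𝒜 d)] (j : ℤ) (hj : j ≤ c) (ν : H →ₗ[k] k) :
    ∃ x ∈ 𝒜 (c - j), ∀ g ∈ 𝓗 j, x • g = ν g • h₀ := by
  haveI := hax.isPerfPair hspan f hf j hj
  obtain ⟨x, hx⟩ := (LinearMap.IsPerfPair.bijective_left (pairing 𝒜 𝓗 f (c - j) j)).2
    (ν ∘ₗ (pieceK 𝒜 𝓗 j).subtype)
  refine ⟨x, x.2, fun g hg => ?_⟩
  have h1 := LinearMap.congr_fun hx (⟨g, hg⟩ : pieceK 𝒜 𝓗 j)
  have h2 : f ((x : R) • g) = ν g := h1
  rw [eq_apply_smul hspan f hf (smul_mem_add 𝒜 𝓗 (sub_add_cancel c j) x.2 hg), h2]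

include hax hspan hf in
/-- every functional on `R_{c-j}` is represented by an element of `H_j` -/
theorem PairAx.exists_repr' [∀ d, Module.Finite k (𝒜 d)] (j : ℤ) (hj : j ≤ c) (μ : R →ₗ[k] k) :
    ∃ g ∈ 𝓗 j, ∀ x ∈ 𝒜 (c - j), x • g = μ x • h₀ := by
  haveI := hax.isPerfPair hspan f hf j hj
  obtain ⟨g, hg⟩ := (LinearMap.IsPerfPair.bijective_right (pairing 𝒜 𝓗 f (c - j) j)).2
    (μ ∘ₗ (𝒜 (c - j)).subtype)
  refine ⟨g, g.2, fun x hx => ?_⟩
  have h1 := LinearMap.congr_fun hg (⟨x, hx⟩ : 𝒜 (c - j))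
  have h2 : f (x • (g : H)) = μ x := h1
  rw [eq_apply_smul hspan f hf (smul_mem_add 𝒜 𝓗 (sub_add_cancel c j) hx g.2), h2]

include hax hspan hf in
theorem PairAx.finite_piece [∀ d, Module.Finite k (𝒜 d)] (j : ℤ) (hj : j ≤ c) :
    Module.Finite k (pieceK 𝒜 𝓗 j) :=
  FiniteDimensional.of_injective _ (pairing_flip_injective hax hspan f hf j hj)

include hax hspan hf in
theorem PairAx.finrank_eq [∀ d, Module.Finite k (𝒜 d)] (j : ℤ) (hj : j ≤ c) :
    Module.finrank k (pieceK 𝒜 𝓗 j) = Module.finrank k (𝒜 (c - j)) := by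
  haveI := hax.isPerfPair hspan f hf j hj
  exact (Module.finrank_of_isPerfPair (pairing 𝒜 𝓗 f (c - j) j)).symm

end

/-- a functional with value one at a nonzero vector -/
theorem exists_dual_eq_one {V : Type u} [AddCommGroup V] [Module k V] {v : V} (hv : v ≠ 0) :
    ∃ f : V →ₗ[k] k, f v = 1 := by
  have h1 : ¬ ∀ f : Module.Dual k V, f v = 0 := fun h =>
    hv ((Module.forall_dual_apply_eq_zero_iff k v).mp h)
  push Not at h1
  obtain ⟨f, hf⟩ := h1
  refine ⟨(f v)⁻¹ • f, ?_⟩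
  rw [LinearMap.smul_apply, smul_eq_mul, inv_mul_cancel₀ hf]

end Groth.Agent.H81.GorSeg
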