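import Mathlib
import Groth.Agent.H81.GorSeg.PairAx
import Groth.Agent.H98.GrStar.Basic

set_option autoImplicit false
set_option linter.unusedSectionVars false
set_option linter.style.haveILetI false
universe u

/-!
# Divisible graded modules over standard graded algebras  (helper81)

If `H = R_1 H` (as `R`-modules) for a graded module `H` then `H_{j+N} = R_N H_j`.
-/

namespace Groth.Agent.H81.GorSeg

open Groth.Agent.H98.GrStar

variable {k : Type u} [Field k] {R : Type u} [CommRing R] [Algebra k R]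
  (𝒜 : ℤ → Submodule k R) [GradedAlgebra 𝒜]
  {H : Type u} [AddCommGroup H] [Module R H]
  (𝓗 : ℤ → AddSubgroup H) [DirectSum.Decomposition 𝓗] [SetLike.GradedSMul 𝒜 𝓗]

/-- the additive span of the products `R_d H_j` -/
def prodSub (d j : ℤ) : AddSubgroup H :=
  AddSubgroup.closure {z : H | ∃ u ∈ 𝒜 d, ∃ g ∈ 𝓗 j, z = u • g}

theorem smul_mem_prodSub {d j : ℤ} {u : R} (hu : u ∈ 𝒜 d) {g : H} (hg : g ∈ 𝓗 j) :
    u • g ∈ prodSub 𝒜 𝓗 d j :=
  AddSubgroup.subset_closure ⟨u, hu, g, hg, rfl⟩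

theorem decompose_mem_prodSub_one
    (hmH : (Ideal.span ((𝒜 1 : Submodule k R) : Set R)) • (⊤ : Submodule R H) = ⊤) (y : H) (j : ℤ) :
    ((DirectSum.decompose 𝓗 y (1 + j) : 𝓗 (1 + j)) : H) ∈ prodSub 𝒜 𝓗 1 j := by
  have key : ∀ a ∈ Ideal.span ((𝒜 1 : Submodule k R) : Set R), ∀ (h : H) (j : ℤ),
      ((DirectSum.decompose 𝓗 (a • h) (1 + j) : 𝓗 (1 + j)) : H) ∈ prodSub 𝒜 𝓗 1 j := by
    intro a ha
    refine Submodule.span_induction (p := fun a _ => ∀ (h : H) (j : ℤ),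
      ((DirectSum.decompose 𝓗 (a • h) (1 + j) : 𝓗 (1 + j)) : H) ∈ prodSub 𝒜 𝓗 1 j) ?_ ?_ ?_ ?_ ha
    · intro u hu h j
      rw [decompose_smul_homog 𝒜 𝓗 hu h j]
      exact smul_mem_prodSub 𝒜 𝓗 hu (SetLike.coe_mem _)
    · intro h j
      rw [zero_smul, DirectSum.decompose_zero, DirectSum.zero_apply]
      exact (prodSub 𝒜 𝓗 1 j).zero_mem
    · intro a b _ _ ha hb h j
      rw [add_smul, DirectSum.decompose_add, DirectSum.add_apply, AddSubgroup.coe_add]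
      exact (prodSub 𝒜 𝓗 1 j).add_mem (ha h j) (hb h j)
    · intro r b _ hb h j
      rw [smul_eq_mul, mul_comm, mul_smul]
      exact hb (r • h) j
  have hy : y ∈ (Ideal.span ((𝒜 1 : Submodule k R) : Set R)) • (⊤ : Submodule R H) := by
    rw [hmH]
    trivial
  refine Submodule.smul_induction_on (p := fun y => ∀ j : ℤ,
    ((DirectSum.decompose 𝓗 y (1 + j) : 𝓗 (1 + j)) : H) ∈ prodSub 𝒜 𝓗 1 j) hy ?_ ?_ j
  · intro a ha h _ j
    exact key a ha h j
  · intro a b ha hb j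
    rw [DirectSum.decompose_add, DirectSum.add_apply, AddSubgroup.coe_add]
    exact (prodSub 𝒜 𝓗 1 j).add_mem (ha j) (hb j)

theorem mem_prodSub_one
    (hmH : (Ideal.span ((𝒜 1 : Submodule k R) : Set R)) • (⊤ : Submodule R H) = ⊤) (j : ℤ)
    (y : H) (hy : y ∈ 𝓗 (1 + j)) : y ∈ prodSub 𝒜 𝓗 1 j := by
  have := decompose_mem_prodSub_one 𝒜 𝓗 hmH y j
  rwa [DirectSum.decompose_of_mem_same 𝓗 hy] at this

/-- `H_{N+j} = R_N H_j` -/
theorem mem_prodSub_nat
    (hmH : (Ideal.span ((𝒜 1 : Submodule k R) : Set R)) • (⊤ : Submodule R H) = ⊤) (N : ℕ) :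
    ∀ (j : ℤ) (y : H), y ∈ 𝓗 ((N : ℤ) + j) → y ∈ prodSub 𝒜 𝓗 (N : ℤ) j := by
  induction N with
  | zero =>
    intro j y hy
    have h1 : (1 : R) • y ∈ prodSub 𝒜 𝓗 ((0 : ℕ) : ℤ) j := by
      apply smul_mem_prodSub 𝒜 𝓗 (u := 1)
      · rw [Nat.cast_zero]
        exact SetLike.GradedOne.one_mem
      · rwa [Nat.cast_zero, zero_add] at hy
    rwa [one_smul] at h1
  | succ N ih =>
    intro j y hy
    have e : ((N + 1 : ℕ) : ℤ) + j = 1 + ((N : ℤ) + j) := by push_cast; ring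
    rw [e] at hy
    have h1 := mem_prodSub_one 𝒜 𝓗 hmH _ y hy
    refine AddSubgroup.closure_induction (p := fun z _ => z ∈ prodSub 𝒜 𝓗 ((N + 1 : ℕ) : ℤ) j)
      ?_ ?_ ?_ ?_ h1
    · rintro z ⟨u, hu, g, hg, rfl⟩
      have h2 := ih j g hg
      refine AddSubgroup.closure_induction
        (p := fun w _ => u • w ∈ prodSub 𝒜 𝓗 ((N + 1 : ℕ) : ℤ) j) ?_ ?_ ?_ ?_ h2
      · rintro w ⟨v, hv, g', hg', rfl⟩
        rw [← mul_smul]
        apply smul_mem_prodSub 𝒜 𝓗 _ hg'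
        have := SetLike.GradedMul.mul_mem (A := 𝒜) hu hv
        have e2 : (1 : ℤ) + (N : ℤ) = ((N + 1 : ℕ) : ℤ) := by push_cast; ring
        rwa [e2] at this
      · rw [smul_zero]
        exact AddSubgroup.zero_mem _
      · intro a b _ _ ha hb
        rw [smul_add]
        exact AddSubgroup.add_mem _ ha hb
      · intro a _ ha
        rw [smul_neg]
        exact AddSubgroup.neg_mem _ ha
    · exact AddSubgroup.zero_mem _
    · intro a b _ _ ha hb
      exact AddSubgroup.add_mem _ ha hb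
    · intro a _ ha
      exact AddSubgroup.neg_mem _ ha

/-- the divisibility hypothesis of `PairAx.eq_bot_of_gt` -/
theorem hdiv_of_smul_top
    (hmH : (Ideal.span ((𝒜 1 : Submodule k R) : Set R)) • (⊤ : Submodule R H) = ⊤) (c : ℤ)
    (n : ℤ) (hn : c < n) (y : H) (hy : y ∈ 𝓗 n) :
    y ∈ AddSubgroup.closure {z : H | ∃ u ∈ 𝒜 (n - c), ∃ g ∈ 𝓗 c, z = u • g} := by
  obtain ⟨N, hN⟩ : ∃ N : ℕ, n - c = (N : ℤ) := ⟨(n - c).toNat, (Int.toNat_of_nonneg (by omega)).symm⟩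
  have hy' : y ∈ 𝓗 ((N : ℤ) + c) := by
    have e : (N : ℤ) + c = n := by omega
    rwa [e]
  have := mem_prodSub_nat 𝒜 𝓗 hmH N c y hy'
  rw [hN]
  exact this

end Groth.Agent.H81.GorSeg
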