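import Mathlib
import Groth.Agent.H81.GorSeg.PairAx
import Groth.Agent.H81.HullPairing
import Groth.Agent.H85.GrConv
import Groth.Agent.H85.SegreOneCMC
import Groth.Agent.H85.GrLCBase
import Groth.Agent.H98.Bass0.GorTop2
import Groth.Agent.H98.Canon.TopDeg
import Groth.Agent.H98.GrStar.Hull2
import Groth.Agent.H98.GrStar.LocCohGr

set_option autoImplicit false
set_option linter.unusedSectionVars false
set_option linter.style.haveILetI false
universe u

/-!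
# The pairing axioms for `*E(k)` and for the top local cohomology of a Gorenstein graded algebra
(helper81)
-/

namespace Groth.Agent.H81.GorSeg

open Groth.Agent.H98.GrStar Groth.Agent.H85.GrConv Groth.Agent.H85.SegreOneCM

section Inst

variable {ι : Type} [AddCommGroup ι] [DecidableEq ι]
variable {R : Type u} [CommRing R] {σ : Type u} [SetLike σ R] [AddSubgroupClass σ R]
  {𝒜 : ι → σ} [GradedRing 𝒜]
variable {M : Type u} [AddCommGroup M] [Module R M] {τ : Type u} [SetLike τ M]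
  [AddSubgroupClass τ M] {ℳ : ι → τ} [DirectSum.Decomposition ℳ] [SetLike.GradedSMul 𝒜 ℳ]

theorem smul_mem_Hgr' (E : GrLC.StarInjRes 𝒜 ℳ) (a : HomogeneousIdeal 𝒜) {d n : ι} {r : R}
    (hr : r ∈ 𝒜 d) (i : ℕ) (z : E.H a i) (hz : z ∈ E.Hgr a i n) : r • z ∈ E.Hgr a i (d + n) := by
  obtain ⟨w, hw, rfl⟩ := hz
  refine ⟨r • w, ?_, map_smul _ _ _⟩
  have := SetLike.GradedSMul.smul_mem (A := 𝒜) (B := (E.X i).gr) hr hw
  rwa [vadd_eq_add] at this

instance instGradedSMulHgr (E : GrLC.StarInjRes 𝒜 ℳ) (a : HomogeneousIdeal 𝒜) (i : ℕ) :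
    SetLike.GradedSMul 𝒜 (E.Hgr a i) :=
  ⟨fun {d n r z} hr hz => by
    rw [vadd_eq_add]
    exact smul_mem_Hgr' E a hr i z hz⟩

end Inst

section Hull

variable {k : Type u} [Field k] {R : Type u} [CommRing R] [Algebra k R] [IsNoetherianRing R]
  [Nontrivial R]
  (𝒜 : ℤ → Submodule k R) [GradedAlgebra 𝒜]
  (hposR : ∀ n : ℤ, n < 0 → 𝒜 n = ⊥) (h0R : 𝒜 0 = Submodule.span k {(1 : R)})
  (m' : HomogeneousIdeal (selfGr 𝒜)) (hm' : GrLC.IsStarLocal (selfGr 𝒜) m')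
  (hmsp : m'.toIdeal = Ideal.span (⋃ n ∈ Set.Ioi (0 : ℤ), (selfGr 𝒜 n : Set R)))
  {E' : Type u} [AddCommGroup E'] [Module R E'] [Module k E'] [IsScalarTower k R E']
  (𝓔 : ℤ → AddSubgroup E') [DirectSum.Decomposition 𝓔] [SetLike.GradedSMul (selfGr 𝒜) 𝓔]
  [SetLike.GradedSMul 𝒜 𝓔]
  (e : (R ⧸ m'.toIdeal) →ₗ[R] E')
  (he : GrLC.IsStarInjHull (selfGr 𝒜) (GrLC.quotGr (selfGr 𝒜) m') 𝓔 e)

include h0R in
theorem exists_smul_one_of_mem_zero' {x : R} (hx : x ∈ 𝒜 0) : ∃ a : k, x = a • (1 : R) := by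
  rw [h0R, Submodule.mem_span_singleton] at hx
  obtain ⟨a, ha⟩ := hx
  exact ⟨a, ha.symm⟩

include hposR h0R hm' hmsp he in
/-- the pairing axioms for `*E(k)`, at level zero -/
theorem pairAx_hull : PairAx 𝒜 𝓔 0 ∧ e 1 ∈ 𝓔 0 ∧ e 1 ≠ 0 := by
  have hpos' := selfGr_neg 𝒜 hposR
  have h0' := isField_deg0_selfGr 𝒜 h0R
  have hne : m'.toIdeal ≠ ⊤ := Groth.Agent.H98.Bass0.ne_top_of_isStarLocal (selfGr 𝒜) hm'
  have he1 : e 1 ∈ 𝓔 0 := Groth.Agent.H98.Canon.e_mem_zero (selfGr 𝒜)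
    (Groth.Agent.H81.HullPairing.hpos' (selfGr 𝒜) hpos') hmsp 𝓔 e he.toIsStarEss 1
  have he0 : e 1 ≠ 0 := Groth.Agent.H81.HullPairing.e_one_ne_zero (selfGr 𝒜) 𝓔 e he hne
  refine ⟨⟨?_, ?_, ⟨e 1, he1, he0, ?_⟩⟩, he1, he0⟩
  · intro d x hx hx0
    obtain ⟨y, hy, hxy⟩ := Groth.Agent.H81.HullPairing.exists_mem_smul_ne_zero (selfGr 𝒜) hpos' hm'
      hmsp 𝓔 e he (d := d) (r := x) hx hx0
    refine ⟨y, ?_, hxy⟩
    rwa [zero_sub]
  · intro d _ g hg hg0
    obtain ⟨x, hx, hxg⟩ := Groth.Agent.H81.HullPairing.exists_smul_ne_zero_of_mem (selfGr 𝒜) hpos'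
      hmsp 𝓔 e he hg hg0
    refine ⟨x, ?_, hxg⟩
    have e1 : -(0 - d) = d := by ring
    rw [e1] at hx
    exact hx
  · intro h hh
    obtain ⟨c₀, hc₀, hc⟩ := Groth.Agent.H81.HullPairing.exists_eq_smul_e_one (selfGr 𝒜) hpos' h0'
      hmsp 𝓔 e he hne hh
    obtain ⟨a, rfl⟩ := exists_smul_one_of_mem_zero' 𝒜 h0R (x := c₀) hc₀
    refine ⟨a, ?_⟩
    rw [hc, smul_assoc, one_smul]

end Hull

section Transport

variable {k : Type u} [Field k] {R : Type u} [CommRing R] [Algebra k R]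
  (𝒜 : ℤ → Submodule k R) [GradedAlgebra 𝒜]
  {E' : Type u} [AddCommGroup E'] [Module R E'] [Module k E'] [IsScalarTower k R E']
  (𝓔 : ℤ → AddSubgroup E') [DirectSum.Decomposition 𝓔] [SetLike.GradedSMul 𝒜 𝓔]
  {P : Type u} [AddCommGroup P] [Module R P] [Module k P] [IsScalarTower k R P]
  (𝓟 : ℤ → AddSubgroup P) [DirectSum.Decomposition 𝓟] [SetLike.GradedSMul 𝒜 𝓟]

/-- transport of the pairing axioms along a bijection shifting degrees by `g` -/
theorem pairAx_of_equiv (φ : P ≃ₗ[R] E') (g : ℤ) (hφ : ∀ j, ∀ x ∈ 𝓟 j, φ x ∈ 𝓔 (j + g))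
    (hax : PairAx 𝒜 𝓔 0) : PairAx 𝒜 𝓟 (-g) := by
  have hsymm : ∀ j, ∀ y ∈ 𝓔 j, φ.symm y ∈ 𝓟 (j - g) := by
    intro j y hy
    exact Groth.Agent.H98.Canon.symm_mem_of_shift 𝓟 𝓔 φ.toAddEquiv g
      (fun i x hx => by
        have := hφ i x hx
        rwa [add_comm] at this) j y hy
  have hk : ∀ (a : k) (x : P), φ (a • x) = a • φ x := by
    intro a x
    rw [← algebraMap_smul R a x, ← algebraMap_smul R a (φ x), map_smul]
  refine ⟨?_, ?_, ?_⟩
  · intro d x hx hx0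
    obtain ⟨y, hy, hxy⟩ := hax.left d x hx hx0
    refine ⟨φ.symm y, ?_, ?_⟩
    · have := hsymm _ y hy
      have e1 : 0 - d - g = -g - d := by ring
      rwa [e1] at this
    · intro h
      apply hxy
      have := congrArg φ h
      rwa [map_smul, LinearEquiv.apply_symm_apply, map_zero] at this
  · intro d hd p hp hp0
    have h1 : φ p ∈ 𝓔 (0 - d) := by
      have := hφ _ p hp
      have e1 : -g - d + g = 0 - d := by ring
      rwa [e1] at this
    have h2 : φ p ≠ 0 := fun h => hp0 (φ.injective (h.trans (map_zero φ).symm))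
    obtain ⟨x, hx, hxp⟩ := hax.right d hd (φ p) h1 h2
    refine ⟨x, hx, ?_⟩
    intro h
    apply hxp
    rw [← map_smul, h, map_zero]
  · obtain ⟨h₀, hh₀, hne, hspan⟩ := hax.one
    refine ⟨φ.symm h₀, ?_, ?_, ?_⟩
    · have := hsymm 0 h₀ hh₀
      rwa [zero_sub] at this
    · intro h
      apply hne
      have := congrArg φ h
      rwa [LinearEquiv.apply_symm_apply, map_zero] at this
    · intro p hp
      have h1 : φ p ∈ 𝓔 0 := by
        have := hφ _ p hp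
        rwa [neg_add_cancel] at this
      obtain ⟨a, ha⟩ := hspan (φ p) h1
      refine ⟨a, ?_⟩
      apply φ.injective
      rw [hk, LinearEquiv.apply_symm_apply, ha]

end Transport

end Groth.Agent.H81.GorSeg
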