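import Mathlib
import Groth.Agent.H81.GorSeg.HullAx
import Groth.Agent.H81.Seg.SelfRes
import Groth.Agent.H85.GrLCBridge

set_option autoImplicit false
set_option linter.unusedSectionVars false
set_option linter.style.haveILetI false
universe u

/-!
# The top local cohomology of a Gorenstein graded algebra satisfies the pairing axioms  (helper81)
-/

namespace Groth.Agent.H81.GorSeg

open Groth.Agent.H98.GrStar Groth.Agent.H85.GrConv Groth.Agent.H85.SegreOneCM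

variable {k : Type u} [Field k] {T : Type u} [CommRing T] [Algebra k T] [Nontrivial T]
  (𝒯 : ℤ → Submodule k T) [GradedAlgebra 𝒯]
  (hposT : ∀ n : ℤ, n < 0 → 𝒯 n = ⊥) (h0T : 𝒯 0 = Submodule.span k {(1 : T)})
  (mT : HomogeneousIdeal 𝒯)
  (hmT : mT.toIdeal = Ideal.span (⋃ n ∈ Set.Ioi (0 : ℤ), (𝒯 n : Set T)))

include hposT h0T hmT in
theorem isStarLocal_homAG [IsNoetherianRing T] :
    GrLC.IsStarLocal (selfGr 𝒯) (homAG 𝒯 mT) ∧ (homAG 𝒯 mT).toIdeal.IsMaximal := by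
  have hpos' := selfGr_neg 𝒯 hposT
  have h0' := isField_deg0_selfGr 𝒯 h0T
  have heq : homAG 𝒯 mT = Groth.Agent.H85.GrLCBridge.irrH (selfGr 𝒯) := by
    apply HomogeneousIdeal.toIdeal_injective
    rw [homAG_toIdeal, hmT]
    rfl
  rw [heq]
  exact ⟨Groth.Agent.H85.GrLCBridge.isStarLocal_irrH (selfGr 𝒯) hpos' h0',
    Groth.Agent.H85.GrLCBridge.irrI_isMaximal (selfGr 𝒯) hpos' h0'⟩

include hposT h0T hmT in
theorem exists_pairAx_of_gorenstein [LocCoh.IsGorensteinRing T]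
    (IT : GrLC.StarInjRes 𝒯 𝒯) (n : ℕ) (hn : ringKrullDim T = n)
    [Module k (IT.H mT n)] [IsScalarTower k T (IT.H mT n)] :
    ∃ c : ℤ, PairAx 𝒯 (IT.Hgr mT n) c := by
  classical
  haveI : IsNoetherianRing T := inferInstance
  obtain ⟨hm', hmax⟩ := isStarLocal_homAG 𝒯 hposT h0T mT hmT
  haveI := hmax
  have hht : (homAG 𝒯 mT).toIdeal.height = n :=
    Groth.Agent.H85.GrLCBase.height_irr_eq (selfGr 𝒯) (homAG 𝒯 mT) hm' n hn
  obtain ⟨E, e, he⟩ := exists_isStarInjHull (selfGr 𝒯) (quotIdealGMod (selfGr 𝒯) (homAG 𝒯 mT)).gr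
  obtain ⟨g, φ, hφ⟩ := Groth.Agent.H98.Bass0.exists_top_H_equiv T (selfGr 𝒯) (homAG 𝒯 mT) hm' n hht
    (resAG 𝒯 IT) E.carrier E.gr e he
  letI : Module k E.carrier := Module.compHom E.carrier (algebraMap k T)
  haveI : IsScalarTower k T E.carrier := IsScalarTower.of_algebraMap_smul (fun _ _ => rfl)
  haveI : SetLike.GradedSMul 𝒯 E.gr :=
    ⟨fun {_ _ _ _} ha hb => SetLike.GradedSMul.smul_mem (A := selfGr 𝒯) (B := E.gr) ha hb⟩
  have hull := pairAx_hull 𝒯 hposT h0T (homAG 𝒯 mT) hm' hmT E.gr e he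
  letI : DirectSum.Decomposition (IT.Hgr mT n) :=
    (Hgr_isInternal 𝒯 (selfGr 𝒯) (Groth.Agent.H81.Seg.selfRes 𝒯 IT) mT n).chooseDecomposition
  let φ' : IT.H mT n ≃ₗ[T] E.carrier := φ
  refine ⟨-g, pairAx_of_equiv 𝒯 E.gr (IT.Hgr mT n) φ' g ?_ hull.1⟩
  intro j x hx
  exact hφ j x hx

end Groth.Agent.H81.GorSeg
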