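import Mathlib
import Groth.Agent.H81.GorSeg.GorTopAx
import Groth.Agent.H98.Ver.GorCrit
import Groth.Agent.H98.SegCM.Bridge
import Groth.Agent.H98.GrStar.Shift

set_option autoImplicit false
set_option linter.unusedSectionVars false
set_option linter.unusedVariables false
set_option linter.style.haveILetI false
universe u

/-!
# A Cohen–Macaulay graded algebra whose top local cohomology satisfies the pairing axioms and
vanishes above the pairing level is Gorenstein  (helper81)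
-/

namespace Groth.Agent.H81.GorSeg

open Groth.Agent.H98.GrStar Groth.Agent.H85.GrConv Groth.Agent.H85.SegreOneCM

section Ext

variable {R : Type u} [CommRing R] (𝒜' : ℤ → AddSubgroup R) [GradedRing 𝒜']
  {M : Type u} [AddCommGroup M] [Module R M] (ℳ : ℤ → AddSubgroup M)
  [DirectSum.Decomposition ℳ] [SetLike.GradedSMul 𝒜' ℳ]
  {E' : Type u} [AddCommGroup E'] [Module R E'] (𝓔 : ℤ → AddSubgroup E')
  [DirectSum.Decomposition 𝓔] [SetLike.GradedSMul 𝒜' 𝓔]

/-- extension of a map into a *injective module along an injective map shifting degrees -/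
theorem exists_ext_shift (hE : GrLC.IsStarInj 𝒜' 𝓔) (A : GrLC.GMod.{u} 𝒜') (c : ℤ)
    (f₀ : A.carrier →ₗ[R] M) (hf₀ : ∀ j, ∀ y ∈ A.gr j, f₀ y ∈ ℳ (j + c))
    (hinj : Function.Injective f₀) (e : A.carrier →ₗ[R] E') (he : GrLC.IsGrHom A.gr 𝓔 e) :
    ∃ Θ : M →ₗ[R] E', (∀ j x, x ∈ ℳ (j + c) → Θ x ∈ 𝓔 j) ∧ Θ ∘ₗ f₀ = e := by
  have hf : GrLC.IsGrHom A.gr (shiftGMod 𝒜' (GrLC.GMod.of 𝒜' M ℳ) (-c)).gr f₀ := by
    intro j y hy
    change f₀ y ∈ ℳ (j - -c)
    rw [sub_neg_eq_add]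
    exact hf₀ j y hy
  obtain ⟨Θ, h1, h2⟩ := hE A (shiftGMod 𝒜' (GrLC.GMod.of 𝒜' M ℳ) (-c)) f₀ hf hinj e he
  refine ⟨Θ, fun j x hx => h1 j x ?_, h2⟩
  change x ∈ ℳ (j - -c)
  rw [sub_neg_eq_add]
  exact hx

end Ext

variable {k : Type u} [Field k] {R : Type u} [CommRing R] [Algebra k R] [Nontrivial R]
  (𝒜 : ℤ → Submodule k R) [GradedAlgebra 𝒜]
  (hposR : ∀ n : ℤ, n < 0 → 𝒜 n = ⊥) (h0R : 𝒜 0 = Submodule.span k {(1 : R)})
  (mR : HomogeneousIdeal 𝒜)
  (hmR : mR.toIdeal = Ideal.span (⋃ n ∈ Set.Ioi (0 : ℤ), (𝒜 n : Set R)))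

set_option maxHeartbeats 1600000 in
include hposR h0R hmR in
theorem isGorensteinRing_of_pairAx [LocCoh.IsCohenMacaulayRing R] [∀ d, Module.Finite k (𝒜 d)]
    (I : GrLC.StarInjRes 𝒜 𝒜) (r : ℕ) (hr : ringKrullDim R = r)
    [Module k (I.H mR r)] [IsScalarTower k R (I.H mR r)] (c : ℤ)
    (hax : PairAx 𝒜 (I.Hgr mR r) c) (hvan : ∀ n : ℤ, c < n → I.Hgr mR r n = ⊥) :
    LocCoh.IsGorensteinRing R := by
  classical
  haveI : IsNoetherianRing R := inferInstance
  obtain ⟨hm', hmax⟩ := isStarLocal_homAG 𝒜 hposR h0R mR hmR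
  haveI := hmax
  obtain ⟨E, e, he⟩ : ∃ (E : GrLC.GMod.{u} (selfGr 𝒜))
      (e : (R ⧸ (homAG 𝒜 mR).toIdeal) →ₗ[R] E.carrier),
      GrLC.IsStarInjHull (selfGr 𝒜) (GrLC.quotGr (selfGr 𝒜) (homAG 𝒜 mR)) E.gr e :=
    exists_isStarInjHull (selfGr 𝒜) (quotIdealGMod (selfGr 𝒜) (homAG 𝒜 mR)).gr
  letI : Module k E.carrier := Module.compHom E.carrier (algebraMap k R)
  haveI : IsScalarTower k R E.carrier := IsScalarTower.of_algebraMap_smul (fun _ _ => rfl)
  haveI : SetLike.GradedSMul 𝒜 E.gr :=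
    ⟨fun {_ _ _ _} ha hb => SetLike.GradedSMul.smul_mem (A := selfGr 𝒜) (B := E.gr) ha hb⟩
  obtain ⟨haxE, he1, he0⟩ := pairAx_hull 𝒜 hposR h0R (homAG 𝒜 mR) hm' hmR E.gr e he
  obtain ⟨fE, hfE⟩ := exists_dual_eq_one (k := k) he0
  have hspanE : ∀ h ∈ E.gr 0, ∃ a : k, h = a • e 1 := by
    obtain ⟨h₀', hh₀', hne', hspan'⟩ := haxE.one
    intro h hh
    obtain ⟨a, ha⟩ := hspan' h hh
    obtain ⟨b, hb⟩ := hspan' (e 1) he1
    have hb0 : b ≠ 0 := by
      rintro rfl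
      rw [zero_smul] at hb
      exact he0 hb
    refine ⟨a * b⁻¹, ?_⟩
    rw [hb, smul_smul, mul_assoc, inv_mul_cancel₀ hb0, mul_one, ha]
  -- the graded module `H`
  letI decH : DirectSum.Decomposition (I.Hgr mR r) :=
    (Hgr_isInternal 𝒜 (selfGr 𝒜) (Groth.Agent.H81.Seg.selfRes 𝒜 I) mR r).chooseDecomposition
  haveI gsH : SetLike.GradedSMul (selfGr 𝒜) (I.Hgr mR r) :=
    ⟨fun {_ _ _ _} ha hb => SetLike.GradedSMul.smul_mem (A := 𝒜) (B := I.Hgr mR r) ha hb⟩
  obtain ⟨h₀, hh₀, hne, hspan⟩ := hax.one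
  obtain ⟨fH, hfH⟩ := exists_dual_eq_one (k := k) hne
  -- `m` kills `h₀`
  have hkill : ∀ x ∈ mR.toIdeal, x • h₀ = 0 := by
    intro x hx
    rw [hmR] at hx
    refine Submodule.span_induction (p := fun x _ => x • h₀ = 0) ?_ ?_ ?_ ?_ hx
    · intro u hu
      simp only [Set.mem_iUnion, Set.mem_Ioi, SetLike.mem_coe, exists_prop] at hu
      obtain ⟨d, hd, hu⟩ := hu
      have h1 : u • h₀ ∈ I.Hgr mR r (d + c) := smul_mem_add 𝒜 (I.Hgr mR r) rfl hu hh₀
      rw [hvan (d + c) (by omega)] at h1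
      exact AddSubgroup.mem_bot.mp h1
    · exact zero_smul _ _
    · intro a b _ _ ha hb
      rw [add_smul, ha, hb, add_zero]
    · intro a b _ hb
      rw [smul_eq_mul, mul_smul, hb, smul_zero]
  -- the map `R ⧸ m → H`
  let f : (R ⧸ (homAG 𝒜 mR).toIdeal) →ₗ[R] I.H mR r :=
    Submodule.liftQ (homAG 𝒜 mR).toIdeal (LinearMap.toSpanSingleton R (I.H mR r) h₀) (by
      intro x hx
      change LinearMap.toSpanSingleton R (I.H mR r) h₀ x = 0
      rw [LinearMap.toSpanSingleton_apply]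
      exact hkill x hx)
  have hf_mk : ∀ x : R, f (Ideal.Quotient.mk _ x) = x • h₀ := fun x => rfl
  have hf : ∀ j, ∀ y ∈ (quotIdealGMod (selfGr 𝒜) (homAG 𝒜 mR)).gr j, f y ∈ I.Hgr mR r (j + c) := by
    intro j y hy
    obtain ⟨s, hs, rfl⟩ := hy
    exact smul_mem_add 𝒜 (I.Hgr mR r) rfl hs hh₀
  have hfinj : Function.Injective f := by
    rw [injective_iff_map_eq_zero]
    intro y hy
    obtain ⟨x, rfl⟩ := Ideal.Quotient.mk_surjective y
    rw [hf_mk] at hy
    by_contra hne'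
    have hx : x ∉ (homAG 𝒜 mR).toIdeal := fun h => hne' (Ideal.Quotient.eq_zero_iff_mem.mpr h)
    obtain ⟨s, i, hi, hsum⟩ := hmax.exists_inv hx
    apply hne
    have h1 : (s * x + i) • h₀ = h₀ := by rw [hsum, one_smul]
    rw [add_smul, mul_smul, hy, smul_zero, zero_add, hkill i hi] at h1
    exact h1.symm
  obtain ⟨Θ, hΘgr, hΘf⟩ := exists_ext_shift (selfGr 𝒜) (I.Hgr mR r) E.gr he.starInj
    (quotIdealGMod (selfGr 𝒜) (homAG 𝒜 mR)) c f hf hfinj e he.grHom
  have hΘ0 : Θ h₀ = e 1 := by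
    have h1 : Θ (f (Ideal.Quotient.mk _ (1 : R))) = e (Ideal.Quotient.mk _ (1 : R)) :=
      LinearMap.congr_fun hΘf (Ideal.Quotient.mk _ (1 : R))
    rw [hf_mk, one_smul] at h1
    exact h1
  have hΘmem : ∀ (j : ℤ) (x : I.H mR r), x ∈ I.Hgr mR r j → Θ x ∈ E.gr (j - c) := by
    intro j x hx
    apply hΘgr (j - c) x
    rw [sub_add_cancel]
    exact hx
  have hΘk : ∀ (a : k) (x : I.H mR r), Θ (a • x) = a • Θ x := by
    intro a x
    rw [← algebraMap_smul R a x, ← algebraMap_smul R a (Θ x), map_smul]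
  -- injectivity
  have hΘinj : Function.Injective Θ := by
    rw [← LinearMap.ker_eq_bot]
    by_contra hker
    have hkerhom : (LinearMap.ker Θ).IsHomogeneous (I.Hgr mR r) := by
      intro i x hx
      rw [LinearMap.mem_ker] at hx ⊢
      have h1 := decompose_map_shift (I.Hgr mR r) E.gr Θ.toAddMonoidHom (-c)
        (fun i x hx => by
          have := hΘmem i x hx
          rwa [sub_eq_neg_add] at this) x i
      have h2 : Θ.toAddMonoidHom x = 0 := hx
      rw [h2, DirectSum.decompose_zero, DirectSum.zero_apply, AddSubgroup.coe_zero] at h1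
      exact h1.symm
    obtain ⟨j, x, hxker, hxj, hx0⟩ := exists_homogeneous_ne_zero (I.Hgr mR r) (LinearMap.ker Θ)
      hkerhom hker
    have hj : j ≤ c := by
      by_contra hj
      push Not at hj
      rw [hvan j hj] at hxj
      exact hx0 (AddSubgroup.mem_bot.mp hxj)
    have hxj' : x ∈ I.Hgr mR r (c - (c - j)) := by
      rwa [sub_sub_cancel]
    obtain ⟨u, hu, hux⟩ := hax.right (c - j) (by omega) x hxj' hx0
    have h1 : u • x ∈ I.Hgr mR r c := smul_mem_add 𝒜 (I.Hgr mR r) (by ring) hu hxj'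
    obtain ⟨a, ha⟩ := hspan _ h1
    have ha0 : a ≠ 0 := by
      rintro rfl
      rw [zero_smul] at ha
      exact hux ha
    have h2 : Θ (u • x) = 0 := by rw [map_smul, LinearMap.mem_ker.mp hxker, smul_zero]
    rw [ha, hΘk, hΘ0] at h2
    exact he0 ((smul_eq_zero.mp h2).resolve_left ha0)
  -- surjectivity on homogeneous elements
  have hsurj : ∀ (j : ℤ) (y : E.carrier), y ∈ E.gr j → ∃ g ∈ I.Hgr mR r (j + c), Θ g = y := by
    intro j y hy
    by_cases hj : 0 < j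
    · have hy0 : y = 0 := Groth.Agent.H81.HullPairing.eq_zero_of_pos (selfGr 𝒜)
        (selfGr_neg 𝒜 hposR) hmR E.gr e he j hj y hy
      exact ⟨0, AddSubgroup.zero_mem _, by rw [map_zero, hy0]⟩
    · push Not at hj
      let μ : R →ₗ[k] k := fE ∘ₗ ((LinearMap.toSpanSingleton R E.carrier y).restrictScalars k)
      have hμ : ∀ x : R, μ x = fE (x • y) := fun x => rfl
      obtain ⟨g, hg, hgx⟩ := hax.exists_repr' hspan fH hfH (j + c) (by omega) μ
      refine ⟨g, hg, ?_⟩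
      by_contra hne'
      have hdiff : Θ g - y ∈ E.gr (0 - (-j)) := by
        have e1 : (0 : ℤ) - (-j) = j := by ring
        rw [e1]
        apply AddSubgroup.sub_mem _ _ hy
        have := hΘmem (j + c) g hg
        rwa [add_sub_cancel_right] at this
      obtain ⟨x, hx, hxd⟩ := haxE.right (-j) (by omega) _ hdiff (sub_ne_zero.mpr hne')
      apply hxd
      have hx' : x ∈ 𝒜 (c - (j + c)) := by
        have e1 : c - (j + c) = -j := by ring
        rwa [e1]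
      have hxy : x • y ∈ E.gr 0 := smul_mem_add 𝒜 E.gr (by ring) hx hy
      rw [smul_sub, ← map_smul, hgx x hx', hΘk, hΘ0, hμ,
        ← eq_apply_smul hspanE fE hfE hxy, sub_self]
  have hΘsurj : Function.Surjective Θ := by
    intro y
    rw [← DirectSum.sum_support_decompose E.gr y]
    choose! G hG hGy using hsurj
    refine ⟨∑ j ∈ (DirectSum.decompose E.gr y).support,
      G j ((DirectSum.decompose E.gr y j : E.gr j) : E.carrier), ?_⟩
    rw [map_sum]
    refine Finset.sum_congr rfl fun j _ => ?_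
    exact hGy j _ (SetLike.coe_mem _)
  let Ψ : E.carrier ≃ₗ[R] I.H mR r :=
    (LinearEquiv.ofBijective Θ ⟨hΘinj, hΘsurj⟩).symm
  have hΨ : ∀ j x, x ∈ E.gr j → Ψ x ∈ I.Hgr mR r (j + c) := by
    intro j x hx
    obtain ⟨g, hg, hgx⟩ := hsurj j x hx
    have h1 : Ψ x = g := by
      rw [LinearEquiv.symm_apply_eq]
      exact hgx.symm
    rw [h1]
    exact hg
  have hlow : ∀ j, j < r → Subsingleton ((resAG 𝒜 I).H (homAG 𝒜 mR) j) := fun j hj =>
    Groth.Agent.H98.SegCM.H_subsingleton_of_cm 𝒜 hposR h0R mR hmR r hr I j hj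
  have hhigh : ∀ i, r < i → Subsingleton ((resAG 𝒜 I).H (homAG 𝒜 mR) i) := fun i hi =>
    Groth.Agent.H98.SegCM.H_subsingleton_of_dim_lt 𝒜 mR r hr I i hi
  exact Groth.Agent.H98.Ver.isGorensteinRing_of_top_equiv (selfGr 𝒜) E.gr hm' r (resAG 𝒜 I)
    hlow hhigh he.starInj c Ψ hΨ

end Groth.Agent.H81.GorSeg
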