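import Mathlib
import Groth.Agent.H81.GorSeg.PairAx

set_option autoImplicit false
set_option linter.unusedSectionVars false
set_option linter.style.haveILetI false
universe u

/-!
# Vanishing above the pairing level  (helper81)

If `H` satisfies the pairing axioms at level `c`, the "Hom lemma" holds for `R`
(`Hom_R(R_{≥N}, R)_{-N} = 0` for `N > 0`) and `H_n = R_{n-c} H_c` for `n > c`, then `H_n = 0` for
`n > c`.
-/

namespace Groth.Agent.H81.GorSeg

open Module

variable {k : Type u} [Field k] {R : Type u} [CommRing R] [Algebra k R]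
  {𝒜 : ℤ → Submodule k R} [GradedAlgebra 𝒜]
  {H : Type u} [AddCommGroup H] [Module R H] [Module k H] [IsScalarTower k R H]
  {𝓗 : ℤ → AddSubgroup H} [SetLike.GradedSMul 𝒜 𝓗]

/-- the "Hom lemma": a family of maps `R_d → R_{d-N}` (`d ≥ N`) compatible with multiplication
vanishes.  (For `R` of depth at least two.) -/
def HomLemma (𝒜 : ℤ → Submodule k R) : Prop :=
  ∀ N : ℤ, 0 < N → ∀ φ : ℤ → R → R,
    (∀ d, N ≤ d → ∀ u ∈ 𝒜 d, φ d u ∈ 𝒜 (d - N)) →
    (∀ d e, N ≤ d → N ≤ e → ∀ u ∈ 𝒜 d, ∀ v ∈ 𝒜 e, u * φ e v = v * φ d u) →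
    ∀ u ∈ 𝒜 N, φ N u = 0

theorem PairAx.eq_bot_of_gt [∀ d, Module.Finite k (𝒜 d)] {c : ℤ} (hax : PairAx 𝒜 𝓗 c)
    (hhom : HomLemma 𝒜)
    (hdiv : ∀ n, c < n → ∀ y ∈ 𝓗 n,
      y ∈ AddSubgroup.closure {z : H | ∃ u ∈ 𝒜 (n - c), ∃ g ∈ 𝓗 c, z = u • g})
    (n : ℤ) (hn : c < n) : 𝓗 n = ⊥ := by
  classical
  obtain ⟨h₀, hh₀, hne, hspan⟩ := hax.one
  obtain ⟨f, hf⟩ := exists_dual_eq_one (k := k) hne
  rw [eq_bot_iff]
  intro y hy
  rw [AddSubgroup.mem_bot]
  -- it suffices that every functional kills `y`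
  rw [← Module.forall_dual_apply_eq_zero_iff k y]
  intro ℓ
  set N : ℤ := n - c with hN
  have hNpos : 0 < N := by omega
  -- the representing elements
  have hrep : ∀ (d : ℤ) (u : R), N ≤ d → ∃ z ∈ 𝒜 (d - N), ∀ g ∈ 𝓗 (n - d), z • g = ℓ (u • g) • h₀ := by
    intro d u hd
    have hj : n - d ≤ c := by omega
    obtain ⟨z, hz, hzg⟩ := hax.exists_repr hspan f hf (n - d) hj
      (ℓ ∘ₗ (LinearMap.lsmul R H u).restrictScalars k)
    have e : c - (n - d) = d - N := by omega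
    rw [e] at hz
    exact ⟨z, hz, hzg⟩
  let φ : ℤ → R → R := fun d u => if hd : N ≤ d then Classical.choose (hrep d u hd) else 0
  have hφmem : ∀ d, N ≤ d → ∀ u, φ d u ∈ 𝒜 (d - N) := by
    intro d hd u
    simp only [φ, dif_pos hd]
    exact (Classical.choose_spec (hrep d u hd)).1
  have hφrep : ∀ d, N ≤ d → ∀ u, ∀ g ∈ 𝓗 (n - d), φ d u • g = ℓ (u • g) • h₀ := by
    intro d hd u
    simp only [φ, dif_pos hd]
    exact (Classical.choose_spec (hrep d u hd)).2
  have hsym : ∀ d e, N ≤ d → N ≤ e → ∀ u ∈ 𝒜 d, ∀ v ∈ 𝒜 e, u * φ e v = v * φ d u := by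
    intro d e hd he u hu v hv
    by_contra hne'
    have hmem : u * φ e v - v * φ d u ∈ 𝒜 (d + e - N) := by
      apply Submodule.sub_mem
      · have := SetLike.GradedMul.mul_mem (A := 𝒜) hu (hφmem e he v)
        have e1 : d + (e - N) = d + e - N := by omega
        rwa [e1] at this
      · have := SetLike.GradedMul.mul_mem (A := 𝒜) hv (hφmem d hd u)
        have e1 : e + (d - N) = d + e - N := by omega
        rwa [e1] at this
    obtain ⟨g, hg, hxg⟩ := hax.left (d + e - N) _ hmem (sub_ne_zero.mpr hne')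
    apply hxg
    have hug : u • g ∈ 𝓗 (n - e) := smul_mem_add 𝒜 𝓗 (by omega) hu hg
    have hvg : v • g ∈ 𝓗 (n - d) := smul_mem_add 𝒜 𝓗 (by omega) hv hg
    rw [sub_smul, mul_smul, mul_smul, smul_comm u (φ e v) g, smul_comm v (φ d u) g,
      hφrep e he v _ hug, hφrep d hd u _ hvg, smul_comm v u g, sub_self]
  have hzero := hhom N hNpos φ (fun d hd u _ => hφmem d hd u) hsym
  -- conclude on generators
  have hgen : ∀ z ∈ {z : H | ∃ u ∈ 𝒜 (n - c), ∃ g ∈ 𝓗 c, z = u • g}, ℓ z = 0 := by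
    rintro z ⟨u, hu, g, hg, rfl⟩
    have hg' : g ∈ 𝓗 (n - N) := by
      have e : n - N = c := by omega
      rwa [e]
    have h1 := hφrep N le_rfl u g hg'
    rw [hzero u hu, zero_smul] at h1
    by_contra hℓ
    exact hne ((smul_eq_zero.mp h1.symm).resolve_left hℓ)
  have hy' := hdiv n hn y hy
  refine AddSubgroup.closure_induction (p := fun z _ => ℓ z = 0) ?_ ?_ ?_ ?_ hy'
  · intro z hz
    exact hgen z hz
  · exact map_zero ℓ
  · intro a b _ _ ha hb
    rw [map_add, ha, hb, add_zero]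
  · intro a _ ha
    rw [map_neg, ha, neg_zero]

end Groth.Agent.H81.GorSeg
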