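import Mathlib
import Groth.Agent.H81.GorSeg.VanishAbove
import Groth.Agent.H85.SegreOneCMC
import Groth.Agent.H85.GrLCRS
import Groth.Agent.H98.SegCM.StdCM

set_option autoImplicit false
set_option linter.unusedSectionVars false
set_option linter.unusedVariables false
set_option linter.style.haveILetI false
universe u

/-!
# The Hom lemma for standard graded Cohen–Macaulay algebras of dimension `≥ 2`  (helper81)
-/

namespace Groth.Agent.H81.GorSeg

open Groth.Agent.H98.GrStar Groth.Agent.H85.GrConv Groth.Agent.H85.SegreOneCM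
  Groth.Agent.H85.GrLCRegSeq

theorem pow_reg {R : Type u} [CommRing R] {x : R} (hx : ∀ y : R, x * y = 0 → y = 0) :
    ∀ (n : ℕ) (y : R), x ^ n * y = 0 → y = 0 := by
  intro n
  induction n with
  | zero => intro y hy; rwa [pow_zero, one_mul] at hy
  | succ n ih =>
    intro y hy
    rw [pow_succ, mul_assoc] at hy
    exact hx y (ih _ hy)

variable {k : Type u} [Field k] {R : Type u} [CommRing R] [Algebra k R]
  (𝒜 : ℤ → Submodule k R) [GradedAlgebra 𝒜]
  (hposR : ∀ n : ℤ, n < 0 → 𝒜 n = ⊥) (h0R : 𝒜 0 = Submodule.span k {(1 : R)})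
  (hstdR : Ideal.span (⋃ n ∈ Set.Ioi (0 : ℤ), (𝒜 n : Set R)) =
    Ideal.span ((𝒜 1 : Submodule k R) : Set R))

include hposR h0R hstdR in
theorem homLemma [Nontrivial R] [LocCoh.IsCohenMacaulayRing R] (r : ℕ) (hr : ringKrullDim R = r)
    (h2r : 2 ≤ r) : HomLemma 𝒜 := by
  classical
  intro N hN φ hdeg hsym u hu
  haveI : IsNoetherianRing R := inferInstance
  -- a homogeneous regular element of positive degree
  obtain ⟨g, cdeg, hgdeg, hcpos, hgreg⟩ := exists_regular_seq 𝒜 hposR h0R r hr (D := 1) one_pos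
  set x : R := g 0 with hx
  have hxreg : ∀ y : R, x * y = 0 → y = 0 := by
    intro y hy
    have := hgreg 0 (by omega) y (by
      rw [Jid_zero]
      exact (Submodule.mem_bot R).mpr hy)
    rw [Jid_zero] at this
    exact (Submodule.mem_bot R).mp this
  obtain ⟨N', rfl⟩ : ∃ N' : ℕ, N = (N' : ℤ) := ⟨N.toNat, (Int.toNat_of_nonneg hN.le).symm⟩
  have hN' : 0 < N' := by exact_mod_cast hN
  set p : ℕ := cdeg 0 with hp
  have hp1 : 1 ≤ p := hcpos 0 (by omega)
  have hxmem : x ∈ 𝒜 (p : ℤ) := by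
    have := hgdeg 0 (by omega)
    rwa [mul_one] at this
  set X : R := x ^ N' with hX
  set D : ℤ := (N' : ℤ) * (p : ℤ) with hD
  have hXmem : X ∈ 𝒜 D := by
    have := SetLike.pow_mem_graded N' hxmem
    rwa [nsmul_eq_mul] at this
  have hDN : (N' : ℤ) ≤ D := by
    have : (1 : ℤ) ≤ p := by exact_mod_cast hp1
    nlinarith
  have hDpos : 0 < D := by omega
  have hXreg : ∀ y : R, X * y = 0 → y = 0 := pow_reg hxreg N'
  set w : R := φ D X with hw
  have hwmem : w ∈ 𝒜 (D - N') := hdeg D hDN X hXmem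
  have hkey : ∀ u' ∈ 𝒜 (N' : ℤ), u' * w = X * φ N' u' :=
    fun u' hu' => hsym N' D le_rfl hDN u' hu' X hXmem
  -- saturation
  have hpos' := selfGr_neg 𝒜 hposR
  have h0' := isField_deg0_selfGr 𝒜 h0R
  have hm' := Groth.Agent.H85.GrLCBridge.isStarLocal_irrH (selfGr 𝒜) hpos' h0'
  have hsat : w ∈ Jid (fun _ : ℕ => X) 1 := by
    refine Groth.Agent.H85.GrLCRS.saturated (selfGr 𝒜) hpos' h0'
      (Groth.Agent.H85.GrLCBridge.irrH (selfGr 𝒜)) hm' rfl r hr (fun _ => X)
      (fun _ => ⟨D, hXmem⟩) (fun _ => D) 1 (by omega) (fun _ _ => hXmem) (fun _ _ => hDpos)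
      ?_ w N' ?_
    · intro i hi y hy
      have hi0 : i = 0 := by omega
      subst hi0
      rw [Jid_zero] at hy ⊢
      exact (Submodule.mem_bot R).mpr (hXreg y ((Submodule.mem_bot R).mp hy))
    · intro a ha
      have h1 : (Groth.Agent.H85.GrLCBridge.irrH (selfGr 𝒜)).toIdeal =
          Ideal.span ((𝒜 1 : Submodule k R) : Set R) := by
        rw [← hstdR]
        rfl
      rw [h1] at ha
      have h2 := Groth.Agent.H98.SegCM.span_one_pow_le 𝒜 N' ha
      rw [Jid_succ, Jid_zero, bot_sup_eq]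
      refine Submodule.span_induction (p := fun a _ => a * w ∈ Ideal.span {X}) ?_ ?_ ?_ ?_ h2
      · intro u' hu'
        rw [hkey u' hu']
        exact Ideal.mul_mem_right _ _ (Ideal.mem_span_singleton_self X)
      · rw [zero_mul]
        exact Submodule.zero_mem _
      · intro a b _ _ ha hb
        rw [add_mul]
        exact Submodule.add_mem _ ha hb
      · intro a b _ hb
        rw [smul_eq_mul, mul_assoc]
        exact Ideal.mul_mem_left _ _ hb
  rw [Jid_succ, Jid_zero, bot_sup_eq, Ideal.mem_span_singleton'] at hsat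
  obtain ⟨z, hz⟩ := hsat
  -- degree comparison
  have hw0 : w = 0 := by
    have h1 : ((DirectSum.decompose 𝒜 w (D + (-(N' : ℤ))) : 𝒜 (D + (-(N' : ℤ)))) : R) = w := by
      apply DirectSum.decompose_of_mem_same
      rwa [← sub_eq_add_neg]
    have h2 : ((DirectSum.decompose 𝒜 (X * z) (D + (-(N' : ℤ))) : 𝒜 (D + (-(N' : ℤ)))) : R) =
        X * ((DirectSum.decompose 𝒜 z (-(N' : ℤ)) : 𝒜 (-(N' : ℤ))) : R) :=
      DirectSum.coe_decompose_mul_add_of_left_mem 𝒜 hXmem
    have h3 : ((DirectSum.decompose 𝒜 z (-(N' : ℤ)) : 𝒜 (-(N' : ℤ))) : R) = 0 := by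
      have hbot : ∀ y ∈ 𝒜 (-(N' : ℤ)), y = 0 := by
        intro y hy
        rw [hposR (-(N' : ℤ)) (by omega)] at hy
        exact (Submodule.mem_bot k).mp hy
      exact hbot _ (DirectSum.decompose 𝒜 z (-(N' : ℤ))).2
    rw [← h1, ← hz, mul_comm z X, h2, h3, mul_zero]
  have := hkey u hu
  rw [hw0, mul_zero] at this
  exact hXreg _ this.symm

end Groth.Agent.H81.GorSeg
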