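import Mathlib
import Groth.Agent.H81.GorSeg.PairAx
import Groth.Prelude.Def_GrSeg

set_option autoImplicit false
set_option linter.unusedSectionVars false
set_option linter.style.haveILetI false
universe u

/-!
# The pairing axioms pass from a Segre product to its factors  (helper81)

If `P = H # H'` over `T = R # S` satisfies the pairing axioms at level `c` (and `R_d, S_d ≠ 0` for
`d ≥ 0`), then so do `H` over `R` and `H'` over `S`.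
-/

namespace Groth.Agent.H81.GorSeg

open scoped TensorProduct

section Tensor

variable {k : Type u} [Field k] {V W : Type u} [AddCommGroup V] [Module k V] [AddCommGroup W]
  [Module k W]

theorem tmul_ne_zero {v : V} {w : W} (hv : v ≠ 0) (hw : w ≠ 0) : v ⊗ₜ[k] w ≠ 0 := by
  obtain ⟨f, hf⟩ := exists_dual_eq_one (k := k) hv
  obtain ⟨g, hg⟩ := exists_dual_eq_one (k := k) hw
  intro h
  have h1 := congrArg (fun z => TensorProduct.lid k k (TensorProduct.map f g z)) h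
  simp only [TensorProduct.map_tmul, TensorProduct.lid_tmul, map_zero, hf, hg, smul_eq_mul,
    mul_one] at h1
  exact one_ne_zero h1

theorem left_ne_zero_of_tmul_ne_zero {v : V} {w : W} (h : v ⊗ₜ[k] w ≠ 0) : v ≠ 0 := by
  rintro rfl
  exact h (TensorProduct.zero_tmul _ _)

theorem right_ne_zero_of_tmul_ne_zero {v : V} {w : W} (h : v ⊗ₜ[k] w ≠ 0) : w ≠ 0 := by
  rintro rfl
  exact h (TensorProduct.tmul_zero _ _)

/-- a linear map not vanishing at an element of a span does not vanish at some generator -/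
theorem exists_ne_zero_of_mem_span {Q : Type u} [AddCommGroup Q] [Module k Q] {X : Type u}
    [AddCommGroup X] [Module k X] (A : X →ₗ[k] Q) {s : Set X} {z : X}
    (hz : z ∈ Submodule.span k s) (hAz : A z ≠ 0) : ∃ y ∈ s, A y ≠ 0 := by
  by_contra hcon
  push Not at hcon
  apply hAz
  have : Submodule.span k s ≤ LinearMap.ker A := by
    rw [Submodule.span_le]
    intro y hy
    exact hcon y hy
  exact this hz

end Tensor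

section Seg

variable {k : Type u} [Field k] {R S T : Type u} [CommRing R] [CommRing S] [CommRing T]
  [Algebra k R] [Algebra k S] [Algebra k T]
  {𝒜 : ℤ → Submodule k R} [GradedAlgebra 𝒜] {ℬ : ℤ → Submodule k S} [GradedAlgebra ℬ]
  {𝒯 : ℤ → Submodule k T} [GradedAlgebra 𝒯]
  {ψ : T →ₐ[k] R ⊗[k] S} (hT : GrSeg.IsSegreRing 𝒜 ℬ 𝒯 ψ)
  {H : Type u} [AddCommGroup H] [Module R H] [Module k H] [IsScalarTower k R H]
  {𝓗 : ℤ → AddSubgroup H} [SetLike.GradedSMul 𝒜 𝓗]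
  {H' : Type u} [AddCommGroup H'] [Module S H'] [Module k H'] [IsScalarTower k S H']
  {𝓗' : ℤ → AddSubgroup H'} [SetLike.GradedSMul ℬ 𝓗']
  {P : Type u} [AddCommGroup P] [Module T P] [Module k P] [IsScalarTower k T P]
  {𝓟 : ℤ → AddSubgroup P} [DirectSum.Decomposition 𝓟] [SetLike.GradedSMul 𝒯 𝓟]
  {Φ : P →ₗ[k] H ⊗[k] H'} (hΦ : GrSeg.IsSegreMod ψ 𝓗 𝓗' 𝓟 Φ)
  {c : ℤ} (hax : PairAx 𝒯 𝓟 c)

include hΦ in
theorem Phi_mem_segrePiece {n : ℤ} {p : P} (hp : p ∈ 𝓟 n) : Φ p ∈ GrSeg.segrePiece k 𝓗 𝓗' n := by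
  have h1 : Φ p ∈ Φ '' (𝓟 n : Set P) := ⟨p, hp, rfl⟩
  rw [hΦ.image_piece n] at h1
  exact h1

include hΦ in
theorem exists_Phi_eq {n : ℤ} {z : H ⊗[k] H'} (hz : z ∈ GrSeg.segrePiece k 𝓗 𝓗' n) :
    ∃ p ∈ 𝓟 n, Φ p = z := by
  have h1 : z ∈ (GrSeg.segrePiece k 𝓗 𝓗' n : Set (H ⊗[k] H')) := hz
  rw [← hΦ.image_piece n] at h1
  obtain ⟨p, hp, hpz⟩ := h1
  exact ⟨p, hp, hpz⟩

include hT in
theorem psi_mem_segrePiece {d : ℤ} {t : T} (ht : t ∈ 𝒯 d) : ψ t ∈ GrSeg.segrePiece k 𝒜 ℬ d := by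
  rw [← hT.2 d]
  exact ⟨t, ht, rfl⟩

include hT in
theorem exists_psi_eq {d : ℤ} {z : R ⊗[k] S} (hz : z ∈ GrSeg.segrePiece k 𝒜 ℬ d) :
    ∃ t ∈ 𝒯 d, ψ t = z := by
  rw [← hT.2 d] at hz
  obtain ⟨t, ht, htz⟩ := hz
  exact ⟨t, ht, htz⟩

include hT hΦ hax in
/-- left non-degeneracy, for both factors at once -/
theorem exists_smul_ne_zero_pair {d : ℤ} {x : R} (hx : x ∈ 𝒜 d) (hx0 : x ≠ 0) {y : S}
    (hy : y ∈ ℬ d) (hy0 : y ≠ 0) :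
    ∃ g ∈ 𝓗 (c - d), ∃ g' ∈ 𝓗' (c - d), x • g ≠ 0 ∧ y • g' ≠ 0 := by
  have hz : x ⊗ₜ[k] y ∈ GrSeg.segrePiece k 𝒜 ℬ d :=
    Submodule.subset_span ⟨x, hx, y, hy, rfl⟩
  obtain ⟨t, ht, htz⟩ := exists_psi_eq hT hz
  have ht0 : t ≠ 0 := by
    rintro rfl
    rw [map_zero] at htz
    exact tmul_ne_zero hx0 hy0 htz.symm
  obtain ⟨p, hp, htp⟩ := hax.left d t ht ht0
  have h1 : Φ (t • p) ≠ 0 := fun h => htp (hΦ.injective (h.trans (map_zero Φ).symm))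
  rw [hΦ.map_smul, htz] at h1
  obtain ⟨w, ⟨g, hg, g', hg', rfl⟩, hw⟩ := exists_ne_zero_of_mem_span
    (GrSeg.act k R S H H' (x ⊗ₜ[k] y)) (Phi_mem_segrePiece hΦ hp) h1
  rw [GrSeg.act_tmul] at hw
  exact ⟨g, hg, g', hg', left_ne_zero_of_tmul_ne_zero hw, right_ne_zero_of_tmul_ne_zero hw⟩

include hT hΦ hax in
/-- right non-degeneracy, for both factors at once -/
theorem exists_smul_ne_zero_pair' {d : ℤ} (hd : 0 ≤ d) {g : H} (hg : g ∈ 𝓗 (c - d)) (hg0 : g ≠ 0)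
    {g' : H'} (hg' : g' ∈ 𝓗' (c - d)) (hg'0 : g' ≠ 0) :
    ∃ x ∈ 𝒜 d, ∃ y ∈ ℬ d, x • g ≠ 0 ∧ y • g' ≠ 0 := by
  have hz : g ⊗ₜ[k] g' ∈ GrSeg.segrePiece k 𝓗 𝓗' (c - d) :=
    Submodule.subset_span ⟨g, hg, g', hg', rfl⟩
  obtain ⟨p, hp, hpz⟩ := exists_Phi_eq hΦ hz
  have hp0 : p ≠ 0 := by
    rintro rfl
    rw [map_zero] at hpz
    exact tmul_ne_zero hg0 hg'0 hpz.symm
  obtain ⟨t, ht, htp⟩ := hax.right d hd p hp hp0
  have h1 : Φ (t • p) ≠ 0 := fun h => htp (hΦ.injective (h.trans (map_zero Φ).symm))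
  rw [hΦ.map_smul, hpz] at h1
  obtain ⟨w, ⟨x, hx, y, hy, rfl⟩, hw⟩ := exists_ne_zero_of_mem_span
    ((GrSeg.act k R S H H').flip (g ⊗ₜ[k] g')) (psi_mem_segrePiece hT ht) h1
  rw [LinearMap.flip_apply, GrSeg.act_tmul] at hw
  exact ⟨x, hx, y, hy, left_ne_zero_of_tmul_ne_zero hw, right_ne_zero_of_tmul_ne_zero hw⟩

include hΦ hax in
/-- the one-dimensional pieces -/
theorem exists_one_pair :
    ∃ h₁ ∈ 𝓗 c, ∃ h₁' ∈ 𝓗' c, h₁ ≠ 0 ∧ h₁' ≠ 0 ∧ (∀ h ∈ 𝓗 c, ∃ a : k, h = a • h₁) ∧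
      ∀ h' ∈ 𝓗' c, ∃ a : k, h' = a • h₁' := by
  obtain ⟨p₀, hp₀, hp₀ne, hspan⟩ := hax.one
  have h1 : Φ p₀ ≠ 0 := fun h => hp₀ne (hΦ.injective (h.trans (map_zero Φ).symm))
  obtain ⟨w, ⟨h₁, hh₁, h₁', hh₁', rfl⟩, hw⟩ := exists_ne_zero_of_mem_span
    (LinearMap.id : H ⊗[k] H' →ₗ[k] H ⊗[k] H') (Phi_mem_segrePiece hΦ hp₀) h1
  rw [LinearMap.id_apply] at hw
  have hh₁0 := left_ne_zero_of_tmul_ne_zero hw
  have hh₁'0 := right_ne_zero_of_tmul_ne_zero hw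
  -- every element of the piece of `H ⊗ H'` is a multiple of `h₁ ⊗ h₁'`
  have hmult : ∀ z ∈ GrSeg.segrePiece k 𝓗 𝓗' c, ∃ a : k, z = a • (h₁ ⊗ₜ[k] h₁') := by
    intro z hz
    obtain ⟨p, hp, hpz⟩ := exists_Phi_eq hΦ hz
    obtain ⟨p₁, hp₁, hp₁z⟩ := exists_Phi_eq hΦ
      (Submodule.subset_span ⟨h₁, hh₁, h₁', hh₁', rfl⟩ : h₁ ⊗ₜ[k] h₁' ∈ GrSeg.segrePiece k 𝓗 𝓗' c)
    obtain ⟨a, rfl⟩ := hspan p hp
    obtain ⟨a₁, rfl⟩ := hspan p₁ hp₁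
    have ha₁ : a₁ ≠ 0 := by
      rintro rfl
      rw [zero_smul, map_zero] at hp₁z
      exact hw hp₁z.symm
    refine ⟨a * a₁⁻¹, ?_⟩
    rw [← hpz, ← hp₁z, map_smul, map_smul, smul_smul, mul_assoc, inv_mul_cancel₀ ha₁, mul_one]
  refine ⟨h₁, hh₁, h₁', hh₁', hh₁0, hh₁'0, ?_, ?_⟩
  · intro h hh
    obtain ⟨a, ha⟩ := hmult (h ⊗ₜ[k] h₁') (Submodule.subset_span ⟨h, hh, h₁', hh₁', rfl⟩)
    refine ⟨a, ?_⟩
    by_contra hne
    have h2 : (h - a • h₁) ⊗ₜ[k] h₁' ≠ 0 := tmul_ne_zero (sub_ne_zero.mpr hne) hh₁'0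
    apply h2
    rw [TensorProduct.sub_tmul, ha, TensorProduct.smul_tmul', sub_self]
  · intro h' hh'
    obtain ⟨a, ha⟩ := hmult (h₁ ⊗ₜ[k] h') (Submodule.subset_span ⟨h₁, hh₁, h', hh', rfl⟩)
    refine ⟨a, ?_⟩
    by_contra hne
    have h2 : h₁ ⊗ₜ[k] (h' - a • h₁') ≠ 0 := tmul_ne_zero hh₁0 (sub_ne_zero.mpr hne)
    apply h2
    rw [TensorProduct.tmul_sub, ha, TensorProduct.tmul_smul, sub_self]

variable (hposR : ∀ n : ℤ, n < 0 → 𝒜 n = ⊥) (hposS : ∀ n : ℤ, n < 0 → ℬ n = ⊥)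
  (hA : ∀ d : ℤ, 0 ≤ d → ∃ x ∈ 𝒜 d, x ≠ 0) (hB : ∀ d : ℤ, 0 ≤ d → ∃ y ∈ ℬ d, y ≠ 0)

include hT hΦ hax hposR hA hB in
/-- the pairing axioms for the first factor -/
theorem pairAx_left : PairAx 𝒜 𝓗 c := by
  obtain ⟨h₁, hh₁, h₁', hh₁', hh₁0, hh₁'0, hs, hs'⟩ := exists_one_pair hΦ hax
  refine ⟨?_, ?_, ⟨h₁, hh₁, hh₁0, hs⟩⟩
  · intro d x hx hx0
    have hd : 0 ≤ d := by
      by_contra hd
      push Not at hd
      rw [hposR d hd] at hx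
      exact hx0 ((Submodule.mem_bot k).mp hx)
    obtain ⟨y, hy, hy0⟩ := hB d hd
    obtain ⟨g, hg, g', hg', h1, h2⟩ := exists_smul_ne_zero_pair hT hΦ hax hx hx0 hy hy0
    exact ⟨g, hg, h1⟩
  · intro d hd g hg hg0
    obtain ⟨x₀, hx₀, hx₀0⟩ := hA d hd
    obtain ⟨y₀, hy₀, hy₀0⟩ := hB d hd
    obtain ⟨g₀, hg₀, g', hg', h1, h2⟩ := exists_smul_ne_zero_pair hT hΦ hax hx₀ hx₀0 hy₀ hy₀0
    have hg'0 : g' ≠ 0 := by
      rintro rfl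
      exact h2 (smul_zero _)
    obtain ⟨x, hx, y, hy, h3, h4⟩ := exists_smul_ne_zero_pair' hT hΦ hax hd hg hg0 hg' hg'0
    exact ⟨x, hx, h3⟩

include hT hΦ hax hposS hA hB in
/-- the pairing axioms for the second factor -/
theorem pairAx_right : PairAx ℬ 𝓗' c := by
  obtain ⟨h₁, hh₁, h₁', hh₁', hh₁0, hh₁'0, hs, hs'⟩ := exists_one_pair hΦ hax
  refine ⟨?_, ?_, ⟨h₁', hh₁', hh₁'0, hs'⟩⟩
  · intro d y hy hy0
    have hd : 0 ≤ d := by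
      by_contra hd
      push Not at hd
      rw [hposS d hd] at hy
      exact hy0 ((Submodule.mem_bot k).mp hy)
    obtain ⟨x, hx, hx0⟩ := hA d hd
    obtain ⟨g, hg, g', hg', h1, h2⟩ := exists_smul_ne_zero_pair hT hΦ hax hx hx0 hy hy0
    exact ⟨g', hg', h2⟩
  · intro d hd g' hg' hg'0
    obtain ⟨x₀, hx₀, hx₀0⟩ := hA d hd
    obtain ⟨y₀, hy₀, hy₀0⟩ := hB d hd
    obtain ⟨g, hg, g₀', hg₀', h1, h2⟩ := exists_smul_ne_zero_pair hT hΦ hax hx₀ hx₀0 hy₀ hy₀0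
    have hg0 : g ≠ 0 := by
      rintro rfl
      exact h1 (smul_zero _)
    obtain ⟨x, hx, y, hy, h3, h4⟩ := exists_smul_ne_zero_pair' hT hΦ hax hd hg hg0 hg' hg'0
    exact ⟨y, hy, h4⟩

end Seg

end Groth.Agent.H81.GorSeg
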