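import Mathlib
import Groth.Agent.H81.GrTopTensor
import Groth.Agent.H58.LCGV

set_option autoImplicit false
set_option linter.unusedSectionVars false
set_option linter.style.haveILetI false
universe u

/-!
# Top local cohomology is divisible: `H^n_m(R) = m H^n_m(R)` for `n = dim R ≥ 1`  (helper81)
-/

namespace Groth.Agent.H81.GorSeg

open TensorProduct Groth.Agent.H81.TopTensor Groth.Agent.H81.GrTopTensor

section Plain

variable {R : Type u} [CommRing R] [IsNoetherianRing R]

theorem smul_top_eq_top_locCoh (m : Ideal R) [m.IsMaximal] (n : ℕ)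
    (hn : ringKrullDim R ≤ (n : WithBot ℕ∞)) (h1 : 1 ≤ n) :
    m • (⊤ : Submodule R (LocCoh.H m n R)) = ⊤ := by
  have hcd : ∀ (N : Type u) [AddCommGroup N] [Module R N] [Module.Finite R N],
      Subsingleton (LocCoh.H m (n + 1) N) := fun N _ _ _ =>
    subsingleton_succ_of_dim_le m n hn N
  have hinj := Theta_injective m n hcd (R ⧸ m)
  haveI : Subsingleton (LocCoh.H m n (R ⧸ m)) := by
    apply Groth.Agent.H58.LC.gv m n (R ⧸ m)
    rw [Module.supportDim_quotient_eq_ringKrullDim]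
    letI : Field (R ⧸ m) := Ideal.Quotient.field m
    rw [ringKrullDim_eq_zero_of_field]
    exact_mod_cast h1
  haveI : Subsingleton ((R ⧸ m) ⊗[R] LocCoh.H m n R) := hinj.subsingleton
  have e := TensorProduct.quotTensorEquivQuotSMul (LocCoh.H m n R) m
  haveI : Subsingleton (LocCoh.H m n R ⧸ (m • (⊤ : Submodule R (LocCoh.H m n R)))) :=
    e.symm.toEquiv.subsingleton
  exact Submodule.Quotient.subsingleton_iff.mp inferInstance

theorem smul_top_eq_top_of_equiv {A B : Type u} [AddCommGroup A] [Module R A] [AddCommGroup B]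
    [Module R B] (e : A ≃ₗ[R] B) (m : Ideal R) (h : m • (⊤ : Submodule R B) = ⊤) :
    m • (⊤ : Submodule R A) = ⊤ := by
  have h1 : (m • (⊤ : Submodule R A)).map e.toLinearMap = ⊤ := by
    rw [Submodule.map_smul'', Submodule.map_top, LinearEquiv.range, h]
  rw [eq_top_iff]
  intro x _
  have hx : e x ∈ (m • (⊤ : Submodule R A)).map e.toLinearMap := by rw [h1]; trivial
  obtain ⟨y, hy, hyx⟩ := hx
  have : y = x := e.injective hyx
  rwa [this] at hy

end Plain

section Graded

variable {ι : Type} [AddCommGroup ι] [DecidableEq ι]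
variable {R : Type u} [CommRing R] [IsNoetherianRing R]
  {σ : Type u} [SetLike σ R] [AddSubgroupClass σ R]
  {𝒜 : ι → σ} [GradedRing 𝒜]
  {τ : Type u} [SetLike τ R] [AddSubgroupClass τ R]
  {ℛ : ι → τ} [DirectSum.Decomposition ℛ] [SetLike.GradedSMul 𝒜 ℛ]

/-- `*H^n_m(R) = m *H^n_m(R)` for `n ≥ dim R`, `n ≥ 1`, `m` maximal -/
theorem smul_top_eq_top_H (I : GrLC.StarInjRes 𝒜 ℛ) (m : HomogeneousIdeal 𝒜)
    [m.toIdeal.IsMaximal] (n : ℕ) (hn : ringKrullDim R ≤ (n : WithBot ℕ∞)) (h1 : 1 ≤ n) :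
    m.toIdeal • (⊤ : Submodule R (I.H m n)) = ⊤ :=
  smul_top_eq_top_of_equiv (lcEquiv I m n) m.toIdeal (smul_top_eq_top_locCoh m.toIdeal n hn h1)

end Graded

end Groth.Agent.H81.GorSeg
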