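import Mathlib
import Groth.Agent.H81.GorSeg.GorOfAx
import Groth.Agent.H81.GorSeg.HomLemma
import Groth.Agent.H81.GorSeg.Divis
import Groth.Agent.H81.GorSeg.TopDivis
import Groth.Agent.H81.GorSeg.SegPair
import Groth.Agent.H81.Seg.TopSegre
import Groth.Agent.H81.VerType
import Groth.Agent.H98.SegCM.StdCM
import Groth.Agent.S18648

set_option autoImplicit false
set_option linter.unusedSectionVars false
set_option linter.unusedVariables false
set_option linter.style.haveILetI false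
universe u

/-!
# If the Segre product of two standard graded Cohen–Macaulay algebras of dimension `≥ 2` is
Gorenstein, then both factors are Gorenstein with equal negative `a`-invariants  (helper81)
-/

namespace Groth.Agent.H81.GorSeg

open scoped TensorProduct
open Groth.Agent.H98.GrStar Groth.Agent.H85.GrConv Groth.Agent.H85.SegreOneCM
  Groth.Agent.H85.SegreRingFacts Groth.Agent.H98.SegCM

section Factor

variable {k : Type u} [Field k] {R : Type u} [CommRing R] [Algebra k R]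
  (𝒜 : ℤ → Submodule k R) [GradedAlgebra 𝒜]
  (hposR : ∀ n : ℤ, n < 0 → 𝒜 n = ⊥) (h0R : 𝒜 0 = Submodule.span k {(1 : R)})
  [Algebra.FiniteType k R] [LocCoh.IsCohenMacaulayRing R]
  (mR : HomogeneousIdeal 𝒜)
  (hmR : mR.toIdeal = Ideal.span (⋃ n ∈ Set.Ioi (0 : ℤ), (𝒜 n : Set R)))
  (hstdR : Ideal.span (⋃ n ∈ Set.Ioi (0 : ℤ), (𝒜 n : Set R)) =
    Ideal.span ((𝒜 1 : Submodule k R) : Set R))
  (I : GrLC.StarInjRes 𝒜 𝒜) (r : ℕ) (hr : ringKrullDim R = r) (h2r : 2 ≤ r)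

include hposR h0R hmR hstdR hr h2r in
/-- a standard graded Cohen–Macaulay algebra of dimension `≥ 2` whose top local cohomology
satisfies the pairing axioms at level `c` is Gorenstein with `a`-invariant `c` -/
theorem factor_gorenstein [Module k (I.H mR r)] [IsScalarTower k R (I.H mR r)] (c : ℤ)
    (hax : PairAx 𝒜 (I.Hgr mR r) c) :
    LocCoh.IsGorensteinRing R ∧
      GrLC.endDeg (I.Hgr mR r) = ((c : WithTop ℤ) : WithBot (WithTop ℤ)) := by
  classical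
  haveI : Nontrivial R := nontrivial_of_dim r hr
  haveI : IsNoetherianRing R := inferInstance
  haveI hfin : ∀ d, Module.Finite k (𝒜 d) := finite_piece 𝒜 hposR h0R
  obtain ⟨hm', hmax⟩ := isStarLocal_homAG 𝒜 hposR h0R mR hmR
  haveI : mR.toIdeal.IsMaximal := hmax
  letI decH : DirectSum.Decomposition (I.Hgr mR r) :=
    (Hgr_isInternal 𝒜 (selfGr 𝒜) (Groth.Agent.H81.Seg.selfRes 𝒜 I) mR r).chooseDecomposition
  have hmH : (Ideal.span ((𝒜 1 : Submodule k R) : Set R)) • (⊤ : Submodule R (I.H mR r)) = ⊤ := by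
    rw [← hstdR, ← hmR]
    exact smul_top_eq_top_H I mR r (le_of_eq hr) (by omega)
  have hvan : ∀ n : ℤ, c < n → I.Hgr mR r n = ⊥ :=
    hax.eq_bot_of_gt (homLemma 𝒜 hposR h0R hstdR r hr h2r)
      (hdiv_of_smul_top 𝒜 (I.Hgr mR r) hmH c)
  refine ⟨isGorensteinRing_of_pairAx 𝒜 hposR h0R mR hmR I r hr c hax hvan, ?_⟩
  apply le_antisymm
  · exact endDeg_le_of_forall _ c hvan
  · apply le_endDeg
    obtain ⟨h₀, hh₀, hne, -⟩ := hax.one
    intro hbot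
    rw [hbot] at hh₀
    exact hne (AddSubgroup.mem_bot.mp hh₀)

end Factor

section Main

variable {k : Type u} [Field k] {R : Type u} [CommRing R] [Algebra k R]
  (𝒜 : ℤ → Submodule k R) [GradedAlgebra 𝒜]
  (hposR : ∀ n : ℤ, n < 0 → 𝒜 n = ⊥) (h0R : 𝒜 0 = Submodule.span k {(1 : R)})
  [Algebra.FiniteType k R]
  {S : Type u} [CommRing S] [Algebra k S]
  (ℬ : ℤ → Submodule k S) [GradedAlgebra ℬ]
  (hposS : ∀ n : ℤ, n < 0 → ℬ n = ⊥) (h0S : ℬ 0 = Submodule.span k {(1 : S)})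
  [Algebra.FiniteType k S]
  {T : Type u} [CommRing T] [Algebra k T] (𝒯 : ℤ → Submodule k T) [GradedAlgebra 𝒯]
  (ψ : T →ₐ[k] R ⊗[k] S) (hψ : Function.Injective ψ)
  (hdegT : ∀ n : ℤ, (𝒯 n).map ψ.toLinearMap =
    Submodule.span k {x : R ⊗[k] S | ∃ a ∈ 𝒜 n, ∃ b ∈ ℬ n, x = a ⊗ₜ[k] b})
  [LocCoh.IsCohenMacaulayRing R] [LocCoh.IsCohenMacaulayRing S]
  (mR : HomogeneousIdeal 𝒜)
  (hmR : mR.toIdeal = Ideal.span (⋃ n ∈ Set.Ioi (0 : ℤ), (𝒜 n : Set R)))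
  (hstdR : Ideal.span (⋃ n ∈ Set.Ioi (0 : ℤ), (𝒜 n : Set R)) =
    Ideal.span ((𝒜 1 : Submodule k R) : Set R))
  (I : GrLC.StarInjRes 𝒜 𝒜)
  (mS : HomogeneousIdeal ℬ)
  (hmS : mS.toIdeal = Ideal.span (⋃ n ∈ Set.Ioi (0 : ℤ), (ℬ n : Set S)))
  (hstdS : Ideal.span (⋃ n ∈ Set.Ioi (0 : ℤ), (ℬ n : Set S)) =
    Ideal.span ((ℬ 1 : Submodule k S) : Set S))
  (J : GrLC.StarInjRes ℬ ℬ)
  (r s : ℕ) (hr : ringKrullDim R = r) (hs : ringKrullDim S = s)

set_option maxHeartbeats 1600000 in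
include hposR h0R hposS h0S hψ hdegT hmR hmS hstdR hstdS hr hs in
/-- the pairing axioms for the factors of a Gorenstein Segre product -/
theorem exists_pairAx_factors (h2r : 2 ≤ r) (h2s : 2 ≤ s) [LocCoh.IsGorensteinRing T]
    [Module k (I.H mR r)] [IsScalarTower k R (I.H mR r)]
    [Module k (J.H mS s)] [IsScalarTower k S (J.H mS s)] :
    ∃ c : ℤ, PairAx 𝒜 (I.Hgr mR r) c ∧ PairAx ℬ (J.Hgr mS s) c := by
  classical
  haveI : Nontrivial R := nontrivial_of_dim r hr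
  haveI : Nontrivial S := nontrivial_of_dim s hs
  haveI : IsNoetherianRing R := Algebra.FiniteType.isNoetherianRing k R
  haveI : IsNoetherianRing S := Algebra.FiniteType.isNoetherianRing k S
  have hT : GrSeg.IsSegreRing 𝒜 ℬ 𝒯 ψ := ⟨hψ, hdegT⟩
  have hposT := segre_hpos 𝒜 ℬ 𝒯 ψ hψ hdegT hposR
  have h0T := segre_h0 𝒜 ℬ 𝒯 ψ hψ hdegT h0R h0S
  haveI : Algebra.FiniteType k T := segre_finiteType 𝒜 ℬ 𝒯 ψ hψ hdegT hposR h0R h0S
  haveI : IsNoetherianRing T := Algebra.FiniteType.isNoetherianRing k T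
  have hdimT : ringKrullDim T = ((r + s - 1 : ℕ) : WithBot ℕ∞) :=
    Groth.Agent.H85.SegreDim.main 𝒜 ℬ hposR h0R hposS h0S T 𝒯 ψ hψ hdegT r s hr hs
      (by omega) (by omega)
  haveI : Nontrivial T := by
    by_contra hnt
    rw [not_nontrivial_iff_subsingleton] at hnt
    rw [ringKrullDim_eq_bot_of_subsingleton] at hdimT
    exact WithBot.bot_ne_coe hdimT
  -- the data on `T`
  let mT : HomogeneousIdeal 𝒯 := irrHom 𝒯
  have hmT : mT.toIdeal = Ideal.span (⋃ n ∈ Set.Ioi (0 : ℤ), (𝒯 n : Set T)) := irrHom_toIdeal 𝒯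
  let IT : GrLC.StarInjRes 𝒯 𝒯 := resOf 𝒯 𝒯
  letI instT : Module k (IT.H mT (r + s - 1)) :=
    Module.compHom (IT.H mT (r + s - 1)) (algebraMap k T)
  haveI towT : IsScalarTower k T (IT.H mT (r + s - 1)) :=
    IsScalarTower.of_algebraMap_smul (fun _ _ => rfl)
  obtain ⟨c, haxT⟩ := exists_pairAx_of_gorenstein 𝒯 hposT h0T mT hmT IT (r + s - 1) hdimT
  -- the top local cohomology of the Segre product
  letI decT : DirectSum.Decomposition (IT.Hgr mT (r + s - 1)) :=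
    (Hgr_isInternal 𝒯 (selfGr 𝒯) (Groth.Agent.H81.Seg.selfRes 𝒯 IT) mT
      (r + s - 1)).chooseDecomposition
  have hvR : ∀ i, r < i → Subsingleton ((Groth.Agent.H81.Seg.selfRes 𝒜 I).H mR i) := fun i hi =>
    H_subsingleton_of_dim_lt 𝒜 mR r hr I i hi
  have hvS : ∀ j, s < j → Subsingleton ((Groth.Agent.H81.Seg.selfRes ℬ J).H mS j) := fun j hj =>
    H_subsingleton_of_dim_lt ℬ mS s hs J j hj
  letI i1 : Module k ((Groth.Agent.H81.Seg.selfRes 𝒜 I).H mR r) :=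
    (inferInstance : Module k (I.H mR r))
  haveI i2 : IsScalarTower k R ((Groth.Agent.H81.Seg.selfRes 𝒜 I).H mR r) :=
    (inferInstance : IsScalarTower k R (I.H mR r))
  letI i3 : Module k ((Groth.Agent.H81.Seg.selfRes ℬ J).H mS s) :=
    (inferInstance : Module k (J.H mS s))
  haveI i4 : IsScalarTower k S ((Groth.Agent.H81.Seg.selfRes ℬ J).H mS s) :=
    (inferInstance : IsScalarTower k S (J.H mS s))
  letI i5 : Module k ((Groth.Agent.H81.Seg.selfRes 𝒯 IT).H mT (r + s - 1)) := instT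
  haveI i6 : IsScalarTower k T ((Groth.Agent.H81.Seg.selfRes 𝒯 IT).H mT (r + s - 1)) := towT
  letI i7 : DirectSum.Decomposition ((Groth.Agent.H81.Seg.selfRes 𝒯 IT).Hgr mT (r + s - 1)) := decT
  obtain ⟨Φ, hΦ⟩ := Groth.Agent.H81.Seg.topSegre k R 𝒜 S ℬ T 𝒯 ψ hT mR hmR mS hmS mT hmT
    R (selfGr 𝒜) (Groth.Agent.H81.Seg.selfRes 𝒜 I) S (selfGr ℬ) (Groth.Agent.H81.Seg.selfRes ℬ J)
    T (selfGr 𝒯) ψ.toLinearMap (Groth.Agent.H81.Seg.isSegreMod_self 𝒜 ℬ 𝒯 hT)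
    (Groth.Agent.H81.Seg.selfRes 𝒯 IT) r s h2r h2s hvR hvS
  -- nonvanishing of the pieces of `R` and `S`
  have hA : ∀ d : ℤ, 0 ≤ d → ∃ x ∈ 𝒜 d, x ≠ 0 := fun d hd =>
    Submodule.exists_mem_ne_zero_of_ne_bot (piece_ne_bot 𝒜 hposR h0R hstdR r hr (by omega) d hd)
  have hB : ∀ d : ℤ, 0 ≤ d → ∃ y ∈ ℬ d, y ≠ 0 := fun d hd =>
    Submodule.exists_mem_ne_zero_of_ne_bot (piece_ne_bot ℬ hposS h0S hstdS s hs (by omega) d hd)
  let Φ' : IT.H mT (r + s - 1) →ₗ[k] I.H mR r ⊗[k] J.H mS s := Φ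
  have hΦ' : GrSeg.IsSegreMod ψ (I.Hgr mR r) (J.Hgr mS s) (IT.Hgr mT (r + s - 1)) Φ' := hΦ
  exact ⟨c, pairAx_left hT hΦ' haxT hposR hA hB, pairAx_right hT hΦ' haxT hposS hA hB⟩

end Main

end Groth.Agent.H81.GorSeg
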